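import Cfsg.Agent.H750.F43.UTwo
import Cfsg.Agent.S0765

/-!
# `Sp₆(3)` is generated by six transvections (S2464, row `F₄(3)`, box (A); helper188)

The chain `e₁, f₁, e₁ + e₂, f₂, e₂ + e₃, f₃`. Vectors are coded by their six base 3 digits; a kernel table moves every
nonzero vector to `e₁` by the six transvections.

* `gen6` : the statement of helper186.
-/

set_option autoImplicit false

namespace Cfsg.Agent.H188.F43

open Matrix
open Cfsg.Agent.H700.F43
open Cfsg.Agent.ClassicalGeometry.SympBasic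

/-- the digits -/
def dg (n k : ℕ) : ℕ := n / 3 ^ k % 3

/-- the number of six digits -/
def enc (d : ℕ → ℕ) : ℕ := d 0 + 3 * d 1 + 9 * d 2 + 27 * d 3 + 81 * d 4 + 243 * d 5

theorem dg_enc {d : ℕ → ℕ} (h : ∀ k, d k < 3) {k : ℕ} (hk : k < 6) : dg (enc d) k = d k := by
  have h0 := h 0
  have h1 := h 1
  have h2 := h 2
  have h3 := h 3
  have h4 := h 4
  have h5 := h 5
  interval_cases k <;> simp only [dg, enc] <;> norm_num <;> omega

theorem enc_lt {d : ℕ → ℕ} (h : ∀ k, d k < 3) : enc d < 729 := by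
  have h0 := h 0
  have h1 := h 1
  have h2 := h 2
  have h3 := h 3
  have h4 := h 4
  have h5 := h 5
  simp only [enc]
  omega

/-- the vector of a code -/
def vec (n : ℕ) : V6 := Sum.elim (fun i => (dg n i.1 : F3)) fun i => (dg n (i.1 + 3) : F3)

/-- the form on the codes -/
def fN (n m : ℕ) : ℕ :=
  dg n 3 * dg m 0 + dg n 4 * dg m 1 + dg n 5 * dg m 2 + 2 * (dg n 0 * dg m 3 + dg n 1 * dg m 4 + dg n 2 * dg m 5)

/-- the transvection on the codes -/
def stN (m n : ℕ) : ℕ := enc fun k => (dg n k + fN n m * dg m k) % 3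

theorem form_vec (n m : ℕ) : Cfsg.sympForm 3 F3 (vec n) (vec m) = (fN n m : F3) := by
  have hJ : Matrix.J (Fin 3) F3 *ᵥ vec m = Sum.elim (-fun i : Fin 3 => (dg m (i.1 + 3) : F3)) fun i => (dg m i.1 : F3) := by
    rw [vec, Matrix.J, Matrix.fromBlocks_mulVec]
    congr 1
    · simp [Matrix.neg_mulVec]
    · simp
  have h2 : (2 : F3) = -1 := by decide
  rw [Cfsg.sympForm, hJ, vec, sumElim_dotProduct_sumElim]
  simp only [dotProduct, Fin.sum_univ_three, fN, Pi.neg_apply]
  push_cast
  rw [h2]
  simp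
  ring

theorem transv_vec (n m : ℕ) : (transv (vec m) 1 : Sp).1 *ᵥ vec n = vec (stN m n) := by
  rw [coe_transv, sympTransvection_mulVec, form_vec, one_mul]
  have key : ∀ k, k < 6 → ((dg (stN m n) k : ℕ) : F3) = dg n k + (fN n m : F3) * dg m k := by
    intro k hk
    rw [stN, dg_enc (fun k => Nat.mod_lt _ (by norm_num)) hk, ZMod.natCast_mod]
    push_cast
    rfl
  funext a
  rcases a with i | i
  · exact (key i.1 (by omega)).symm
  · exact (key (i.1 + 3) (by omega)).symm

/-- the code of a vector -/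
def cd (v : V6) : ℕ := enc fun k =>
  if k = 0 then (v (Sum.inl 0)).val else if k = 1 then (v (Sum.inl 1)).val else if k = 2 then (v (Sum.inl 2)).val else
    if k = 3 then (v (Sum.inr 0)).val else if k = 4 then (v (Sum.inr 1)).val else (v (Sum.inr 2)).val

theorem vec_cd (v : V6) : vec (cd v) = v := by
  have h : ∀ k : ℕ, (if k = 0 then (v (Sum.inl 0)).val else if k = 1 then (v (Sum.inl 1)).val else if k = 2 then
      (v (Sum.inl 2)).val else if k = 3 then (v (Sum.inr 0)).val else if k = 4 then (v (Sum.inr 1)).val else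
      (v (Sum.inr 2)).val) < 3 := by
    intro k
    split_ifs <;> exact ZMod.val_lt _
  funext a
  rcases a with i | i <;> fin_cases i <;>
    simp only [vec, cd, Sum.elim_inl, Sum.elim_inr] <;> rw [dg_enc h (by norm_num)] <;> simp

theorem cd_lt (v : V6) : cd v < 729 := by
  refine enc_lt fun k => ?_
  split_ifs <;> exact ZMod.val_lt _

/-- the generator to be applied -/
def tab : ℕ := 0x5b6db6db6db6db2492492db6db6db6c96d92492496db6db6db6db6c924924b6db6db6db6db5b6db045b6db6db6db6dadb6da4adb6db6db6db6d6db48956db6cb2db6d96c91c724b6db6db6db6c924924925b2db6cb6db659248dc92db6db6db6db6d6db6d256db6db6db6db6b6db648b6db6db6db6db5b4db255b6db6db6db6db2492492db6db6db6db6d92492496cb6db6db6db6c924924b6db6596db6db5c924925b6db6db6db648db92492d96db65b6db2c71c9249249249249249236da6926dc9249248dc91b6db2449247249249248da6922a49249249249246db6c11249249249249236db69291c92491b91c91b4d229369b68a6db6d244a45021b6db4936d24924924810db6d935b6db2692c9640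

/-- the distance -/
def rks : ℕ := 0xa4ad29421494292a4ad29429494ad4b5316951d06425484a96a59d06424e952d8b62d49429495312a62d49429495ad4b6b16a4a1494a0c83a1495a98b5a96b52d8c5a9893a0e8318e84254b4a92a4254852d8b4a948521493a5695b58a5a98b5318b5b58b6292b5292a52d2b52d4c62d4b5a94b5ad4c5212849d095254b6296a5a52a4254b5a54b4ad2b5a56f531cc5a96c6a98c531cc5316a629494ad474a128521076b1695a96a6314b424e952ce84a92a31cab6292a5b18d62d495ad4b6a12b525074a58d5a98e6adaa4ad4a49d283a50a4ad4a4ad6a4292b531484a1273a127425484a1274a9084a96952d2b4ad485310a62d2a4ad4a62d2b6b14c5a98b5a94b5a1495256b5258b5256a5a98b4a92a4254b4254b4a94b4a9694a96c52d8a5a98c531e95b56a4ad6d5b18a6398b5250a420e74a0c83a0e939cc6314a731cc852126394e8498e84a12531085194c74212a4a0e94a12b3a14941cc8414e731d28399074a10729cc641d285252839cc4314e6420c731ca531cc7424e83a0c53108531ca649d274a0c851d2b52128524c8394e941909429294252a3a50942949414a4194831112741d063a127425484a96919043214611290a429485410a629285a9c43208651000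

/-- the codes of the six vectors -/
def gc : ℕ → ℕ
  | 0 => 1
  | 1 => 27
  | 2 => 4
  | 3 => 81
  | 4 => 12
  | _ => 243

/-- the index of the generator -/
def gi (n : ℕ) : ℕ := (tab >>> (3 * n)) % 8

/-- the distance -/
def rk (n : ℕ) : ℕ := (rks >>> (5 * n)) % 32

theorem check : ∀ n < 729, n = 0 ∨ n = 1 ∨ (stN (gc (gi n)) n ≠ 0 ∧ gi n < 6 ∧ rk (stN (gc (gi n)) n) < rk n) := by
  decide +kernel

/-- the six vectors -/
def v6 (i : Fin 6) : V6 := vec (gc i.1)

/-- the group -/
def H6 : Subgroup Sp := Subgroup.closure (Set.range fun i => (transv (v6 i) 1 : Sp))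

theorem gen_mem {i : ℕ} (hi : i < 6) : (transv (vec (gc i)) 1 : Sp) ∈ H6 := Subgroup.subset_closure ⟨⟨i, hi⟩, rfl⟩

/-- every nonzero vector is moved to the first one -/
theorem exists_move (r : ℕ) : ∀ n < 729, n ≠ 0 → rk n ≤ r → ∃ g ∈ H6, g.1 *ᵥ vec n = vec 1 := by
  induction r with
  | zero =>
    intro n hn h0 hr
    rcases check n hn with h | h | ⟨-, -, h⟩
    · exact absurd h h0
    · exact ⟨1, one_mem _, by rw [h]; exact Matrix.one_mulVec _⟩
    · omega
  | succ r ih =>
    intro n hn h0 hr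
    rcases check n hn with h | h | ⟨h1, h2, h3⟩
    · exact absurd h h0
    · exact ⟨1, one_mem _, by rw [h]; exact Matrix.one_mulVec _⟩
    · obtain ⟨g, hg, he⟩ := ih (stN (gc (gi n)) n) (enc_lt fun k => Nat.mod_lt _ (by norm_num)) h1 (by omega)
      refine ⟨g * transv (vec (gc (gi n))) 1, mul_mem hg (gen_mem h2), ?_⟩
      rw [coe_mul_mulVec, transv_vec]
      exact he

theorem first_mem (c : F3) : (transv (vec 1) c : Sp) ∈ H6 := by
  have h1 : (transv (vec 1) 1 : Sp) ∈ H6 := gen_mem (i := 0) (by norm_num)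
  have h2 : ∀ c d : F3, (transv (vec 1) c : Sp) * transv (vec 1) d = transv (vec 1) (c + d) := fun c d =>
    Subtype.ext (sympTransvection_mul (vec 1) c d)
  have h3 : (transv (vec 1) 0 : Sp) = 1 := Subtype.ext (sympTransvection_zero _)
  have hc : c = 0 ∨ c = 1 ∨ c = 1 + 1 := by
    revert c
    decide
  rcases hc with rfl | rfl | rfl
  · rw [h3]
    exact one_mem _
  · exact h1
  · rw [← h2]
    exact mul_mem h1 h1

theorem transv_mem (v : V6) (c : F3) : (transv v c : Sp) ∈ H6 := by
  by_cases hv : v = 0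
  · have h0 : (transv v c : Sp) = 1 := by
      apply Subtype.ext
      rw [coe_transv, ← Matrix.mulVec_injective.eq_iff]
      funext x
      rw [sympTransvection_mulVec, hv, smul_zero, add_zero]
      exact (Matrix.one_mulVec x).symm
    rw [h0]
    exact one_mem _
  · have h0 : cd v ≠ 0 := by
      intro h0
      apply hv
      rw [← vec_cd v, h0]
      funext a
      rcases a with i | i <;> simp [vec, dg]
    obtain ⟨g, hg, he⟩ := exists_move _ (cd v) (cd_lt v) h0 le_rfl
    rw [vec_cd] at he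
    have h1 := Cfsg.Agent.H750.F43.conj_transv g v c
    rw [he] at h1
    have h2 : (transv v c : Sp) = g⁻¹ * transv (vec 1) c * g := by
      rw [← h1]
      group
    rw [h2]
    exact mul_mem (mul_mem (inv_mem hg) (first_mem c)) hg

theorem H6_top : H6 = ⊤ := by
  rw [eq_top_iff, ← Cfsg.Agent.S0765.result (F := F3) 3, Subgroup.closure_le]
  rintro A ⟨w, c, h⟩
  have h1 : A = transv w c := Subtype.ext h
  rw [h1]
  exact transv_mem w c

/-- **`Sp₆(3)` is generated by six transvections** -/
theorem gen6 : ∃ v : Fin 6 → V6, (∀ i, v i ≠ 0) ∧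
    Subgroup.closure (Set.range fun i => (transv (v i) 1 : Sp)) = ⊤ := by
  refine ⟨v6, fun i => ?_, H6_top⟩
  fin_cases i <;> · intro h; exact absurd h (by decide +kernel)

end Cfsg.Agent.H188.F43
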